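import Cfsg.Agent.Lib.InvT.E6J

/-!
²E₆: kernel checked data for the orthogonal orbits.
-/

set_option autoImplicit false
set_option linter.unusedSectionVars false
set_option linter.unusedVariables false
set_option linter.ambiguousOpen false
set_option maxRecDepth 100000

namespace Cfsg.Agent.Lib.InvT.E6D

open scoped MatrixGroups Matrix
open Cfsg Lie ChevalleyDatum
open Cfsg.Agent.Lib.Chev
open Tables Tables2 AxBasic Mono2
open Cfsg.Agent.Lib.InvE.Red Cfsg.Agent.Lib.InvE.Fusion Cfsg.Agent.Lib.InvE.Tree Cfsg.Agent.Lib.InvE.Final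
open Cfsg.Agent.Lib.Twisted.E6 Cfsg.Agent.Lib.InvT.E6I

local notation "ρE" => Se.ρ

def TG : ℕ := 0x47464142404445433f3d3e3c3a3b3839363735312f303432332e2927281d2d2b2c2422262125231b1c1a2a1f201e191415131718161210110e0f0c0d0b090a08040203070506010047464543443735363334322c2d2b2a0f4240413e3f3d30312f2e3b3c3a39282927252623242122201e1f0e0d0b0c191816170a0809060705381d1c1a1b15131411121003040201004745464443423f3e41403d3c3b393a3837343336353231302e2f2d2c2a2b262520292824231f1e2722211c1d1b1a181917161512111413100f0d0e0c0b0a0706090805040301020046474544434241403c3b3a3f3e3d39383736352d2c2b292827193433322a31302f2625242322211817161d1514132e201f1e1c1b1a1211100f0e0a09080d0c0b0706050403020001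

theorem tg_chk : tabGChk TG = true := by decide +kernel
theorem tgok : TabG TG := tabG_of_chk tg_chk

/-- The representatives. -/
def Reps : List (List ℕ) := [[71], [71, 60], [71, 60, 44]]

/-- With the trivial one. -/
def RR : List (List ℕ) := [] :: Reps

def RB0 : List ℕ := [0x29800000000000000000, 0x400000000000, 0x800000000000, 0x1000000000000, 0x2000000000000, 0x4000000000000, 0x8000000000000, 0x10000000000000, 0x20000000000000, 0x40000000000000, 0x80000000000000, 0x2000000000000000, 0x4000000000000000, 0x8000000000000000, 0x10000000000000000, 0x20000000000000000, 0x40000000000000000, 0x80000000000000000, 0x100000000000000000, 0x200000000000000000, 0x400000000000000000, 0x800000000000000000]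
def RC0 : List ℕ := [0x1, 0x2, 0x4, 0x8, 0x10, 0x20, 0x40, 0x80, 0x100, 0x200, 0x400, 0x0, 0x0, 0x0, 0x0, 0x0, 0x800, 0x1000, 0x2000, 0x4000, 0x8000, 0x10000, 0x20000, 0x40000, 0x80000, 0x100000, 0x0, 0x0, 0x0, 0x0, 0x0, 0x0, 0x0, 0x0, 0x0, 0x0, 0x0, 0x0, 0x0, 0x0, 0x0, 0x0, 0x0, 0x0, 0x0, 0x0, 0x0, 0x0, 0x0, 0x0, 0x0, 0x0, 0x0, 0x0, 0x0, 0x0, 0x0, 0x0, 0x0, 0x0, 0x0, 0x0, 0x0, 0x0, 0x0, 0x0, 0x0, 0x0, 0x0, 0x0, 0x0, 0x0, 0x0, 0x200000, 0x0, 0x0, 0x0, 0x0]
def RD0 : List ℕ := [0x0, 0x0, 0x0, 0x0, 0x0, 0x0, 0x0, 0x0, 0x0, 0x0, 0x0, 0x0, 0x0, 0x0, 0x0, 0x0, 0x0, 0x0, 0x0, 0x0, 0x0, 0x0, 0x0, 0x0, 0x0, 0x0, 0x0, 0x0, 0x0, 0x0, 0x0, 0x0, 0x0, 0x0, 0x0, 0x0, 0x0, 0x0, 0x0, 0x0, 0x0, 0x0, 0x0, 0x0, 0x0, 0x0, 0x2, 0x4, 0x8, 0x10, 0x20, 0x40, 0x80, 0x100, 0x200, 0x400, 0x0, 0x0, 0x0, 0x0, 0x0, 0x800, 0x1000, 0x2000, 0x4000, 0x8000, 0x10000, 0x20000, 0x40000, 0x80000, 0x100000, 0x200000, 0x0, 0x0, 0x0, 0x0, 0x0, 0x200001]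
def RE0 : List ℕ := [0x1, 0x2, 0x4, 0x8, 0x10, 0x20, 0x40, 0x80, 0x100, 0x200, 0x400, 0x10000, 0x20000, 0x40000, 0x80000, 0x100000, 0x200000, 0x400000, 0x800000, 0x1000000, 0x2000000, 0x2000000000000000000]
theorem rk0 : rankChk chevE6 [71] RB0 RC0 RD0 RE0 22 = true := by decide +kernel
theorem sq0 : sqChk chevE6 [71] = true := by decide +kernel
theorem lt0 : ∀ u ∈ ([71] : List ℕ), u < chevE6.nroots ∧ ρE u = u := by decide +kernel

def RB1 : List ℕ := [0x29800000000000000000, 0x8000400000040000, 0x20000800000100000, 0x40001000000200000, 0x2000000000000, 0x100004000000800000, 0x200008000001000000, 0x10000000000000, 0x400020000002000000, 0x40000000000000, 0x80000000000000, 0x3d001000000000000000, 0x1000000000, 0x4000000000, 0x20000000000, 0x200000000000, 0x2000000000000000, 0x4000000000000000, 0x8000000000000000, 0x10000000000000000, 0x20000000000000000, 0x40000000000000000, 0x80000000000000000, 0x100000000000000000, 0x200000000000000000,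 0x400000000000000000, 0x100000000000000, 0x200000000000000, 0x400000000000000, 0x800000000000000, 0x1000000000000000, 0x801000000000000000]
def RC1 : List ℕ := [0x1, 0x2, 0x4, 0x8, 0x10, 0x20, 0x40, 0x80, 0x100, 0x200, 0x400, 0x800, 0x1000, 0x2000, 0x4000, 0x8000, 0x10000, 0x20000, 0x40000, 0x80000, 0x100000, 0x200000, 0x400000, 0x800000, 0x1000000, 0x2000000, 0x4000000, 0x0, 0x0, 0x0, 0x8000000, 0x0, 0x0, 0x10000000, 0x0, 0x20000000, 0x0, 0x0, 0x0, 0x0, 0x0, 0x0, 0x0, 0x0, 0x0, 0x0, 0x40000, 0x100000, 0x200000, 0x0, 0x800000, 0x1000000, 0x0, 0x2000000, 0x0, 0x0, 0x0, 0x0, 0x0, 0x0, 0x0, 0x0, 0x0, 0x0, 0x0, 0x0, 0x0, 0x0, 0x0, 0x0, 0x0, 0x0, 0x40000000, 0x80000000, 0x0, 0x0, 0x0, 0x40000000]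
def RD1 : List ℕ := [0x0, 0x0, 0x0, 0x0, 0x0, 0x0, 0x0, 0x0, 0x0, 0x0, 0x0, 0x0, 0x0, 0x0, 0x0, 0x0, 0x0, 0x0, 0x0, 0x0, 0x0, 0x0, 0x0, 0x0, 0x0, 0x0, 0x0, 0x0, 0x0, 0x0, 0x0, 0x0, 0x0, 0x0, 0x0, 0x0, 0x1000, 0x0, 0x2000, 0x0, 0x0, 0x4000, 0x0, 0x0, 0x0, 0x8000, 0x40002, 0x100004, 0x200008, 0x10, 0x800020, 0x1000040, 0x80, 0x2000100, 0x200, 0x400, 0x4000000, 0x8000000, 0x10000000, 0x20000000, 0x40000000, 0x10000, 0x20000, 0x40000, 0x80000, 0x100000, 0x200000, 0x400000, 0x800000, 0x1000000, 0x2000000, 0xc0000000, 0x0, 0x0, 0x0, 0x0, 0x80000801, 0xc0000001]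
def RE1 : List ℕ := [0x1, 0x2, 0x4, 0x8, 0x10, 0x20, 0x40, 0x80, 0x100, 0x200, 0x400, 0x800, 0x1000, 0x2000, 0x4000, 0x8000, 0x10000, 0x20000, 0x40000, 0x80000, 0x100000, 0x200000, 0x400000, 0x800000, 0x1000000, 0x2000000, 0x4000000, 0x40000000, 0x200000000, 0x800000000, 0x1000000000000000000, 0x2000000000000000000]
theorem rk1 : rankChk chevE6 [71, 60] RB1 RC1 RD1 RE1 32 = true := by decide +kernel
theorem sq1 : sqChk chevE6 [71, 60] = true := by decide +kernel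
theorem lt1 : ∀ u ∈ ([71, 60] : List ℕ), u < chevE6.nroots ∧ ρE u = u := by decide +kernel

def RB2 : List ℕ := [0x29800000000000000000, 0x208008400001040040, 0x420020800002100100, 0x40001000000200000, 0x82000000000400, 0x100004000000800000, 0x200008000001000000, 0x10000000000000, 0x400020000002000000, 0x40000000000000, 0x80000000000000, 0x3d001000000000000000, 0x201000008000, 0x4000000000, 0x20000000000, 0x200000000000, 0x82000000000400000, 0x4000000000000000, 0x208000000001000000, 0x10000000000000000, 0x420000000002000000, 0x40000000000000000, 0x80000000000000000, 0x100000000000000000, 0x200000000000000000, 0x400000000000000000, 0x900000800000000, 0x1c000000100000000000, 0x2000000000, 0x10000000000, 0x200000000000000, 0x40000000000, 0x400000000000000, 0x80000000000, 0x800000000000000, 0x1000100000000000, 0x801000100000000000, 0x100000000000]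
def RC2 : List ℕ := [0x1, 0x2, 0x4, 0x8, 0x10, 0x20, 0x40, 0x80, 0x100, 0x200, 0x400, 0x800, 0x1000, 0x2000, 0x4000, 0x8000, 0x10000, 0x20000, 0x40000, 0x80000, 0x100000, 0x200000, 0x400000, 0x800000, 0x1000000, 0x2000000, 0x4000000, 0x8000000, 0x10000000, 0x20000000, 0x40000000, 0x80000000, 0x0, 0x100000000, 0x200000000, 0x400000000, 0x8000, 0x0, 0x0, 0x0, 0x0, 0x0, 0x0, 0x0, 0x0, 0x0, 0x1040040, 0x2100100, 0x200000, 0x400, 0x800000, 0x1000000, 0x0, 0x2000000, 0x0, 0x0, 0x400000000, 0x0, 0x0, 0x0, 0x0, 0x400000, 0x0, 0x1000000, 0x0, 0x2000000, 0x0, 0x0, 0x0, 0x0, 0x0, 0x0, 0x800000000, 0x1000000000, 0x2000000000, 0x0, 0x2000000000, 0x800000000]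
def RD2 : List ℕ := [0x0, 0x0, 0x0, 0x0, 0x0, 0x0, 0x0, 0x0, 0x0, 0x0, 0x0, 0x0, 0x0, 0x0, 0x0, 0x0, 0x0, 0x0, 0x0, 0x0, 0x0, 0x0, 0x0, 0x0, 0x0, 0x0, 0x0, 0x0, 0x0, 0x0, 0x0, 0x0, 0x0, 0x0, 0x0, 0x0, 0x9000, 0x10000000, 0x2000, 0x0, 0x20000000, 0x4000, 0x80000000, 0x200000000, 0x2000000000, 0x8000, 0x1040042, 0x2100104, 0x200008, 0x410, 0x800020, 0x1000040, 0x80, 0x2000100, 0x200, 0x400, 0x404000000, 0x40000000, 0x100000000, 0x400000000, 0x2800000000, 0x410000, 0x20000, 0x1040000, 0x80000, 0x2100000, 0x200000, 0x400000, 0x800000, 0x1000000, 0x2000000, 0x1800000000, 0x0, 0x0, 0x0, 0x1008000801, 0x3000000801, 0x808000800]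
def RE2 : List ℕ := [0x1, 0x2, 0x4, 0x8, 0x10, 0x20, 0x40, 0x80, 0x100, 0x200, 0x400, 0x800, 0x1000, 0x2000, 0x4000, 0x8000, 0x10000, 0x20000, 0x40000, 0x80000, 0x100000, 0x200000, 0x400000, 0x800000, 0x1000000, 0x2000000, 0x4000000, 0x8000000, 0x10000000, 0x20000000, 0x40000000, 0x80000000, 0x200000000, 0x400000000, 0x800000000, 0x1000000000000000000, 0x2000000000000000000, 0x4000000000000000000]
theorem rk2 : rankChk chevE6 [71, 60, 44] RB2 RC2 RD2 RE2 38 = true := by decide +kernel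
theorem sq2 : sqChk chevE6 [71, 60, 44] = true := by decide +kernel
theorem lt2 : ∀ u ∈ ([71, 60, 44] : List ℕ), u < chevE6.nroots ∧ ρE u = u := by decide +kernel

def W0 : List (List ℕ) := [[0, 1, 3, 1, 0, 2, 3, 1, 0, 3, 1, 2, 3, 1, 0], [0, 1, 3, 1, 0, 2, 3, 1, 0, 3, 1, 2, 3, 1], [0, 1, 3, 1, 0, 2, 3, 1, 0, 3, 1, 2, 3], [2, 3, 1, 0, 3, 1, 2, 3, 1, 0, 2, 3, 1, 3, 2], [2, 3, 1, 0, 3, 1, 2, 3, 1, 0, 2, 3, 1, 3], [2, 3, 1, 0, 2, 3, 1, 2, 3, 1, 0, 2, 3, 1, 3, 2], [0, 1, 3, 1, 0, 2, 3, 1, 0, 3, 1, 2], [2, 3, 1, 0, 3, 1, 2, 3, 1, 0, 2, 3, 1], [0, 1, 3, 1, 0, 2, 3, 1, 0, 3, 2], [2, 3, 1, 0, 3, 1, 2, 3, 1, 0, 2, 3], [2, 3, 1, 0, 3, 1, 2, 3, 1, 0, 2], [0, 1, 3, 1, 0, 2, 3, 1, 3, 2], [2, 3, 1, 0, 3, 1, 2, 3, 1, 2, 3], [2, 3, 1, 0, 3, 1, 2, 3, 1, 2], [2, 3, 1, 0, 3, 1, 2, 3, 2], [2, 3, 1, 0, 3, 1, 3, 2], [2, 3, 1, 0, 2, 3, 1, 2, 3, 1, 0, 2, 3, 1, 3], [2, 3, 1, 0, 2, 3, 1, 2, 3, 1, 0, 2, 3, 1], [0, 1, 3, 1, 0, 2, 3, 1, 0, 3, 1], [2,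 3, 1, 0, 2, 3, 1, 2, 3, 1, 0, 2, 3], [0, 1, 3, 1, 0, 2, 3, 1, 0, 3], [2, 3, 1, 0, 3, 1, 2, 3, 1, 0], [2, 3, 1, 0, 2, 3, 1, 2, 3, 1, 0, 2], [2, 3, 1, 0, 2, 3, 1, 2, 3, 1, 0], [0, 1, 3, 1, 0, 2, 3, 1, 0], [0, 1, 3, 1, 2, 3, 1, 0], [2, 3, 1, 0, 2, 3, 1, 2, 3, 1, 2, 3], [0, 1, 3, 1, 0, 2, 3, 1, 3], [2, 3, 1, 0, 3, 1, 2, 3, 1], [2, 3, 1, 0, 3, 1, 2, 3], [2, 3, 1, 0, 2, 3, 1, 2, 3, 1, 2], [2, 3, 1, 0, 2, 3, 1, 2, 3, 1], [0, 1, 3, 1, 0, 2, 3, 1], [2, 3, 1, 0, 2, 3, 1, 2, 3, 2], [2, 3, 1, 0, 2, 3, 1, 2, 3], [2, 3, 1, 0, 2, 3, 1, 3, 2], [2, 3, 1, 0, 2, 3, 1, 3], [2, 3, 1, 0, 2, 3, 1, 2], [2, 3, 1, 0, 2, 3, 1], [0, 1, 3, 1, 0, 2, 3], [2, 3, 1, 0, 2, 3, 2], [2, 3, 1, 0, 2, 3], [2, 3, 1, 0, 3, 1, 2], [2, 3, 1, 0, 3, 2], [0, 1, 3, 1, 0, 2], [2, 3, 1, 0, 2], [0, 1, 3, 1, 2, 3, 1], [0, 1, 3, 1, 2, 3], [2, 3, 1, 2, 3, 2], [2, 3, 1, 2, 3], [2, 3, 1, 3, 2], [0, 1, 3, 1, 2], [2, 3, 1, 2], [0, 1, 3, 2], [2, 3, 2], [3, 2], [2, 3, 1, 0, 3, 1,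 3], [2, 3, 1, 0, 3, 1], [2, 3, 1, 0, 3], [2, 3, 1, 0], [0, 1, 3, 1, 0], [2, 3, 1, 3], [2, 3, 1], [0, 1, 3, 1], [2, 3], [0, 1, 3], [3], [2], [], [0, 1], [0], []]

theorem nc0 : nodeChkW TG [] [71, 68] W0 = true := by decide +kernel

def W1 : List (List ℕ) := [[], [], [], [], [], [], [], [], [], [], [], [2, 3, 1, 3, 2], [3, 1, 2, 3, 1, 2, 3], [3, 1, 2, 3, 1, 2], [3, 1, 2, 3, 2], [3, 1, 3, 2], [], [], [], [], [], [], [], [], [], [], [2, 3, 1, 2, 3, 1, 2, 3], [2, 3, 1, 3], [3, 1, 2, 3, 1], [3, 1, 2, 3], [2, 3, 1, 2, 3, 1, 2], [2, 3, 1, 2, 3, 1], [2, 3, 1], [2, 3, 1, 2, 3, 2], [2, 3, 1, 2, 3], [2, 3, 1, 3, 2], [2, 3, 1, 3], [2, 3, 1, 2], [2, 3, 1], [2, 3], [2, 3, 2], [2, 3], [3, 1, 2], [3, 2], [2], [2], [], [], [], [], [], [], [], [], [], [], [3, 1, 3], [3, 1], [3], [], [], [], [], [], [], [], [], [], [], [], [], []]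

theorem nc1 : nodeChkW TG [71] [60, 59] W1 = true := by decide +kernel

def W2 : List (List ℕ) := [[], [], [], [], [], [], [], [], [], [], [], [], [], [], [], [], [], [], [], [], [], [], [], [], [], [], [], [3, 1, 3], [1, 3, 1], [1, 3], [], [1, 3, 1, 3], [3, 1], [], [3, 1, 3], [], [], [3, 1], [], [3], [3], [], [1], [], [], [], [], [], [], [], [], [], [], [], [], [], [], [], [], [], [], [], [], [], [], [], [], [], [], [], [], []]

theorem nc2 : nodeChkW TG [71, 60] [44, 43] W2 = true := by decide +kernel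

def W3 : List (List ℕ) := [[], [], [], [], [], [], [], [], [], [], [], [], [], [], [], [], [], [], [], [], [], [], [], [], [], [], [], [], [], [], [], [], [1], [], [], [], [], [], [], [], [], [], [], [], [], [], [], [], [], [], [], [], [], [], [], [], [], [], [], [], [], [], [], [], [], [], [], [], [], [], [], []]

theorem nc3 : nodeChkW TG [71, 60, 44] [39] W3 = true := by decide +kernel

def W4 : List (List ℕ) := [[], [], [], [], [], [], [], [], [], [], [], [], [], [], [], [], [], [], [], [], [], [], [], [], [], [], [], [], [], [], [], [], [], [], [], [], [], [], [], [], [], [], [], [], [], [], [], [], [], [], [], [], [], [], [], [], [], [], [], [], [], [], [], [], [], [], [], [], [], [], [], []]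

theorem nc4 : nodeChkW TG [71, 60, 44, 39] [] W4 = true := by decide +kernel

def W5 : List (List ℕ) := [[], [], [], [], [], [], [], [], [], [], [], [], [], [], [], [], [], [], [], [], [], [], [], [], [], [], [], [], [], [], [], [], [], [], [], [], [], [], [], [], [], [], [], [], [], [], [], [], [], [], [], [], [], [], [], [], [], [], [], [], [], [], [], [], [], [], [], [], [], [], [], []]

theorem nc5 : nodeChkW TG [71, 60, 43, 40] [] W5 = true := by decide +kernel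

def W6 : List (List ℕ) := [[], [], [], [], [], [], [], [], [], [], [], [], [], [], [], [], [], [], [], [], [], [], [], [], [], [], [], [], [], [], [], [], [1], [], [], [], [], [], [], [], [], [], [], [], [], [], [], [], [], [], [], [], [], [], [], [], [], [], [], [], [], [], [], [], [], [], [], [], [], [], [], []]

theorem nc6 : nodeChkW TG [71, 59, 45] [39] W6 = true := by decide +kernel

def W7 : List (List ℕ) := [[], [], [], [], [], [], [], [], [], [], [], [], [], [], [], [], [], [], [], [], [], [], [], [], [], [], [], [], [], [], [], [], [], [], [], [], [], [], [], [], [], [], [], [], [], [], [], [], [], [], [], [], [], [], [], [], [], [], [], [], [], [], [], [], [], [], [], [], [], [], [], []]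

theorem nc7 : nodeChkW TG [71, 59, 45, 39] [] W7 = true := by decide +kernel

def W8 : List (List ℕ) := [[], [], [], [], [], [], [], [], [], [], [], [], [], [], [], [], [], [], [1, 0, 3, 1, 0, 3, 1], [], [1, 0, 3, 1, 0, 3], [], [], [], [1, 3, 1, 0, 3, 1], [1, 3, 1, 0, 3], [], [1, 0, 3, 1, 3], [], [], [], [], [3, 1, 0, 3, 1], [], [], [], [], [], [], [3, 1, 0, 3], [], [], [], [], [1, 0], [], [1, 3, 1, 3], [3, 1, 3], [], [], [], [1], [], [], [], [], [], [], [], [], [], [], [], [], [], [], [], [], [], [], [], []]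

theorem nc8 : nodeChkW TG [68, 66] [53] W8 = true := by decide +kernel

def W9 : List (List ℕ) := [[], [], [], [], [], [], [], [], [], [], [], [], [], [], [], [], [], [], [], [], [], [], [], [], [], [0], [], [], [], [], [], [], [], [], [], [], [], [], [], [], [], [], [], [], [], [], [], [], [], [], [], [], [], [], [], [], [], [], [], [], [], [], [], [], [], [], [], [], [], [], [], []]

theorem nc9 : nodeChkW TG [68, 66, 53] [46] W9 = true := by decide +kernel

def W10 : List (List ℕ) := [[], [], [], [], [], [], [], [], [], [], [], [], [], [], [], [], [], [], [], [], [], [], [], [], [], [], [], [], [], [], [], [], [], [], [], [], [], [], [], [], [], [], [], [], [], [], [], [], [], [], [], [], [], [], [], [], [], [], [], [], [], [], [], [], [], [], [], [], [], [], [], []]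

theorem nc10 : nodeChkW TG [68, 66, 53, 46] [] W10 = true := by decide +kernel

theorem fr_rel : relChk chevE6 [8, 20, 60, 47] [71, 60, 44, 39] [71, 60, 44] = true := by decide +kernel

section Thms

variable {K : Type*} [Field K] [CharP K 2] {q : ℕ} (φ : K ≃+* K) (hφ : ∀ t, φ t = t ^ q) (hφ2 : ∀ t, φ (φ t) = t) (ax : Ax chevE6 K)

include hφ hφ2

theorem B_frame : Clt ax (twistedE6 K q) RR (PP ax [71, 60, 44, 39]) :=
  cl_rel φ hφ hφ2 ax (S := [8, 20, 60, 47]) (U := [71, 60, 44]) (by decide +kernel) (by decide +kernel) (by decide +kernel) fr_rel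
    (cl_rep ax (R := RR) (by decide))

local notation "tE" => Cfsg.Agent.Lib.Twisted.E6.hE

theorem N4 {d : K} (hd : d + φ d = 1) : NNt ax (twistedE6 K q) ρE RR [71, 60, 44, 39] := by
  refine node_stept rdE tE hE2 slE Cfsg.Agent.Lib.InvE.DataE6.cor (Θ := []) (fun v => (W4.getD v []).flatMap wlE)
    (hW_of_chkW φ hφ hφ2 ax tgok (by decide +kernel) nc4) (B_frame φ hφ hφ2 ax) ?_
  intro θ hθ
  simp at hθ

theorem N3 {d : K} (hd : d + φ d = 1) : NNt ax (twistedE6 K q) ρE RR [71, 60, 44] := by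
  refine node_stept rdE tE hE2 slE Cfsg.Agent.Lib.InvE.DataE6.cor (Θ := [39]) (fun v => (W3.getD v []).flatMap wlE)
    (hW_of_chkW φ hφ hφ2 ax tgok (by decide +kernel) nc3) (cl_rep ax (R := RR) (σ := [71, 60, 44]) (by decide)) ?_
  intro θ hθ
  simp only [List.mem_cons, List.not_mem_nil, or_false] at hθ
  rcases hθ with rfl
  · have e0 : [71, 60, 44] ++ orbL ρE 39 = [71, 60, 44, 39] := by decide +kernel
    rw [e0]
    exact N4 φ hφ hφ2 ax hd

theorem N5 {d : K} (hd : d + φ d = 1) : NNt ax (twistedE6 K q) ρE RR [71, 60, 43, 40] := by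
  refine node_stept rdE tE hE2 slE Cfsg.Agent.Lib.InvE.DataE6.cor (Θ := []) (fun v => (W5.getD v []).flatMap wlE)
    (hW_of_chkW φ hφ hφ2 ax tgok (by decide +kernel) nc5) (cl_perm ax (A' := [43, 40] ++ [71, 60]) (by decide +kernel) (by decide +kernel) (cl_r2 φ hφ hφ2 ax hd (a := 42) (c := 37) (b := 39) (v := 43) (w := 40) (k := 44) (Z := [71, 60]) (by decide +kernel) (by decide +kernel) (by decide +kernel) (by decide +kernel) (by decide +kernel) (cl_word φ hφ hφ2 ax (A' := [39, 44, 71, 60]) [] (by decide) (by decide +kernel) (by decide +kernel) (cl_perm ax (A' := [71, 60, 44, 39]) (by decide +kernel) (by decide +kernel) (B_frame φ hφ hφ2 ax))))) ?_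
  intro θ hθ
  simp at hθ

theorem N2 {d : K} (hd : d + φ d = 1) : NNt ax (twistedE6 K q) ρE RR [71, 60] := by
  refine node_stept rdE tE hE2 slE Cfsg.Agent.Lib.InvE.DataE6.cor (Θ := [44, 43]) (fun v => (W2.getD v []).flatMap wlE)
    (hW_of_chkW φ hφ hφ2 ax tgok (by decide +kernel) nc2) (cl_rep ax (R := RR) (σ := [71, 60]) (by decide)) ?_
  intro θ hθ
  simp only [List.mem_cons, List.not_mem_nil, or_false] at hθ
  rcases hθ with rfl | rfl
  · have e0 : [71, 60] ++ orbL ρE 44 = [71, 60, 44] := by decide +kernel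
    rw [e0]
    exact N3 φ hφ hφ2 ax hd
  · have e0 : [71, 60] ++ orbL ρE 43 = [71, 60, 43, 40] := by decide +kernel
    rw [e0]
    exact N5 φ hφ hφ2 ax hd

theorem N7 {d : K} (hd : d + φ d = 1) : NNt ax (twistedE6 K q) ρE RR [71, 59, 45, 39] := by
  refine node_stept rdE tE hE2 slE Cfsg.Agent.Lib.InvE.DataE6.cor (Θ := []) (fun v => (W7.getD v []).flatMap wlE)
    (hW_of_chkW φ hφ hφ2 ax tgok (by decide +kernel) nc7) (cl_perm ax (A' := [59, 45] ++ [71, 39]) (by decide +kernel) (by decide +kernel) (cl_r2 φ hφ hφ2 ax hd (a := 56) (c := 36) (b := 44) (v := 59) (w := 45) (k := 60) (Z := [71, 39]) (by decide +kernel) (by decide +kernel) (by decide +kernel) (by decide +kernel) (by decide +kernel) (cl_word φ hφ hφ2 ax (A' := [44, 60, 71, 39]) [] (by decide) (by decide +kernel) (by decide +kernel) (cl_perm ax (A' := [71, 60, 44, 39]) (by decide +kernel) (by decide +kernel) (B_frame φ hφ hφ2 ax))))) ?_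
  intro θ hθ
  simp at hθ

theorem N6 {d : K} (hd : d + φ d = 1) : NNt ax (twistedE6 K q) ρE RR [71, 59, 45] := by
  refine node_stept rdE tE hE2 slE Cfsg.Agent.Lib.InvE.DataE6.cor (Θ := [39]) (fun v => (W6.getD v []).flatMap wlE)
    (hW_of_chkW φ hφ hφ2 ax tgok (by decide +kernel) nc6) (cl_perm ax (A' := [59, 45] ++ [71]) (by decide +kernel) (by decide +kernel) (cl_r2 φ hφ hφ2 ax hd (a := 56) (c := 36) (b := 44) (v := 59) (w := 45) (k := 60) (Z := [71]) (by decide +kernel) (by decide +kernel) (by decide +kernel) (by decide +kernel) (by decide +kernel) (cl_word φ hφ hφ2 ax (A' := [44, 60, 71]) [] (by decide) (by decide +kernel) (by decide +kernel) (cl_perm ax (A' := [71, 60, 44]) (by decide +kernel) (by decide +kernel) (cl_rep ax (R := RR) (σ := [71, 60, 44]) (by decide)))))) ?_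
  intro θ hθ
  simp only [List.mem_cons, List.not_mem_nil, or_false] at hθ
  rcases hθ with rfl
  · have e0 : [71, 59, 45] ++ orbL ρE 39 = [71, 59, 45, 39] := by decide +kernel
    rw [e0]
    exact N7 φ hφ hφ2 ax hd

theorem N1 {d : K} (hd : d + φ d = 1) : NNt ax (twistedE6 K q) ρE RR [71] := by
  refine node_stept rdE tE hE2 slE Cfsg.Agent.Lib.InvE.DataE6.cor (Θ := [60, 59]) (fun v => (W1.getD v []).flatMap wlE)
    (hW_of_chkW φ hφ hφ2 ax tgok (by decide +kernel) nc1) (cl_rep ax (R := RR) (σ := [71]) (by decide)) ?_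
  intro θ hθ
  simp only [List.mem_cons, List.not_mem_nil, or_false] at hθ
  rcases hθ with rfl | rfl
  · have e0 : [71] ++ orbL ρE 60 = [71, 60] := by decide +kernel
    rw [e0]
    exact N2 φ hφ hφ2 ax hd
  · have e0 : [71] ++ orbL ρE 59 = [71, 59, 45] := by decide +kernel
    rw [e0]
    exact N6 φ hφ hφ2 ax hd

theorem N10 {d : K} (hd : d + φ d = 1) : NNt ax (twistedE6 K q) ρE RR [68, 66, 53, 46] := by
  refine node_stept rdE tE hE2 slE Cfsg.Agent.Lib.InvE.DataE6.cor (Θ := []) (fun v => (W10.getD v []).flatMap wlE)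
    (hW_of_chkW φ hφ hφ2 ax tgok (by decide +kernel) nc10) (cl_perm ax (A' := [68, 66] ++ [53, 46]) (by decide +kernel) (by decide +kernel) (cl_r2 φ hφ hφ2 ax hd (a := 42) (c := 37) (b := 65) (v := 68) (w := 66) (k := 69) (Z := [53, 46]) (by decide +kernel) (by decide +kernel) (by decide +kernel) (by decide +kernel) (by decide +kernel) (cl_word φ hφ hφ2 ax (A' := [60, 71, 44, 39]) [0, 1] (by decide) (by decide +kernel) (by decide +kernel) (cl_perm ax (A' := [71, 60, 44, 39]) (by decide +kernel) (by decide +kernel) (B_frame φ hφ hφ2 ax))))) ?_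
  intro θ hθ
  simp at hθ

theorem N9 {d : K} (hd : d + φ d = 1) : NNt ax (twistedE6 K q) ρE RR [68, 66, 53] := by
  refine node_stept rdE tE hE2 slE Cfsg.Agent.Lib.InvE.DataE6.cor (Θ := [46]) (fun v => (W9.getD v []).flatMap wlE)
    (hW_of_chkW φ hφ hφ2 ax tgok (by decide +kernel) nc9) (cl_perm ax (A' := [68, 66] ++ [53]) (by decide +kernel) (by decide +kernel) (cl_r2 φ hφ hφ2 ax hd (a := 42) (c := 37) (b := 65) (v := 68) (w := 66) (k := 69) (Z := [53]) (by decide +kernel) (by decide +kernel) (by decide +kernel) (by decide +kernel) (by decide +kernel) (cl_word φ hφ hφ2 ax (A' := [60, 71, 44]) [0, 1] (by decide) (by decide +kernel) (by decide +kernel) (cl_perm ax (A' := [71, 60, 44]) (by decide +kernel) (by decide +kernel) (cl_rep ax (R := RR) (σ := [71, 60, 44]) (by decide)))))) ?_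
  intro θ hθ
  simp only [List.mem_cons, List.not_mem_nil, or_false] at hθ
  rcases hθ with rfl
  · have e0 : [68, 66, 53] ++ orbL ρE 46 = [68, 66, 53, 46] := by decide +kernel
    rw [e0]
    exact N10 φ hφ hφ2 ax hd

theorem N8 {d : K} (hd : d + φ d = 1) : NNt ax (twistedE6 K q) ρE RR [68, 66] := by
  refine node_stept rdE tE hE2 slE Cfsg.Agent.Lib.InvE.DataE6.cor (Θ := [53]) (fun v => (W8.getD v []).flatMap wlE)
    (hW_of_chkW φ hφ hφ2 ax tgok (by decide +kernel) nc8) (cl_perm ax (A' := [68, 66] ++ []) (by decide +kernel) (by decide +kernel) (cl_r2 φ hφ hφ2 ax hd (a := 42) (c := 37) (b := 65) (v := 68) (w := 66) (k := 69) (Z := []) (by decide +kernel) (by decide +kernel) (by decide +kernel) (by decide +kernel) (by decide +kernel) (cl_word φ hφ hφ2 ax (A' := [60, 71]) [0, 1] (by decide) (by decide +kernel) (by decide +kernel) (cl_perm ax (A' := [71, 60]) (by decide +kernel) (by decide +kernel) (cl_rep ax (R := RR) (σ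 := [71, 60]) (by decide)))))) ?_
  intro θ hθ
  simp only [List.mem_cons, List.not_mem_nil, or_false] at hθ
  rcases hθ with rfl
  · have e0 : [68, 66] ++ orbL ρE 53 = [68, 66, 53] := by decide +kernel
    rw [e0]
    exact N9 φ hφ hφ2 ax hd

theorem N0 {d : K} (hd : d + φ d = 1) : NNt ax (twistedE6 K q) ρE RR [] := by
  refine node_stept rdE tE hE2 slE Cfsg.Agent.Lib.InvE.DataE6.cor (Θ := [71, 68]) (fun v => (W0.getD v []).flatMap wlE)
    (hW_of_chkW φ hφ hφ2 ax tgok (by decide +kernel) nc0) (cl_rep ax (R := RR) (σ := []) (by decide)) ?_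
  intro θ hθ
  simp only [List.mem_cons, List.not_mem_nil, or_false] at hθ
  rcases hθ with rfl | rfl
  · have e0 : [] ++ orbL ρE 71 = [71] := by decide +kernel
    rw [e0]
    exact N1 φ hφ hφ2 ax hd
  · have e0 : [] ++ orbL ρE 68 = [68, 66] := by decide +kernel
    rw [e0]
    exact N8 φ hφ hφ2 ax hd

theorem all_flat {d : K} (hd : d + φ d = 1) (V : List ℕ) (hV : OrthAll chevE6 (V.flatMap (orbL ρE))) :
    Clt ax (twistedE6 K q) RR (PP ax (V.flatMap (orbL ρE))) := by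
  have := N0 φ hφ hφ2 ax hd V (by simpa using hV)
  simpa using this

end Thms

end Cfsg.Agent.Lib.InvT.E6D
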